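import Cfsg.Agent.Lib.FFPair.Failure
import Cfsg.Agent.Lib.Solvable.Converse
import Cfsg.Agent.Lib.PReduced.Basic

/-!
# A centric characteristic subgroup with a `q`-element in its normalizer

* `key`: a `{p,q}`-group of characteristic `p` with `{p,q} ≠ {2,3}` and `q` in its order has a
  centric characteristic subgroup of its Sylow subgroup whose normalizer has order divisible by `q`
-/

open Subgroup

namespace Cfsg.Agent.PQAutomizer

universe u

variable {p q : ℕ}

theorem characteristic_comap_quotient {P : Type u} [Group P] {N : Subgroup P} [N.Normal]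
    (hN : N.Characteristic) {K : Subgroup (P ⧸ N)} (hK : K.Characteristic) :
    (K.comap (QuotientGroup.mk' N)).Characteristic := by
  refine characteristic_iff_comap_eq.2 fun φ => ?_
  have e : (QuotientGroup.mk' N).comp φ.toMonoidHom =
      ((QuotientGroup.congr N N φ (characteristic_iff_map_eq.1 hN φ)).toMonoidHom).comp
        (QuotientGroup.mk' N) := by ext x; rfl
  rw [comap_comap, e, ← comap_comap, characteristic_iff_comap_eq.1 hK]

theorem pPrimeCore_eq_bot_of_le {X : Type u} [Group X] [Finite X] [hp : Fact p.Prime]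
    (hsep : Solvable.IsPiSeparable {p} X) (hO : Cfsg.pPrimeCore p X = ⊥) {Y : Subgroup X}
    (h : Cfsg.pCore p X ≤ Y) : Cfsg.pPrimeCore p Y = ⊥ := by
  set R := Cfsg.pCore p X
  have hRp : IsPGroup p R := PReduced.isPGroup_pCore p
  have hcop : (Nat.card (Cfsg.pPrimeCore p Y)).Coprime (Nat.card (R.subgroupOf Y)) := by
    obtain ⟨k, hk⟩ := IsPGroup.iff_card.1 hRp
    rw [Nat.card_congr (subgroupOfEquivOfLe h).toEquiv, hk]
    exact (Cores.coprime_card_pPrimeCore p).pow_right k
  have hd : Disjoint (Cfsg.pPrimeCore p Y) (R.subgroupOf Y) :=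
    disjoint_iff.2 (inf_eq_bot_of_coprime hcop)
  refine eq_bot_iff_forall _ |>.2 fun m hm => ?_
  have hc : (m : X) ∈ centralizer (R : Set X) := mem_centralizer_iff.2 fun r hr =>
    (congrArg Subtype.val (commute_of_normal_of_disjoint _ _ inferInstance inferInstance hd m ⟨r, h hr⟩
      hm hr).eq).symm
  have : m ∈ Cfsg.pPrimeCore p Y ⊓ R.subgroupOf Y := ⟨hm, Solvable.centralizer_pCore_le hsep hO hc⟩
  rwa [inf_eq_bot_of_coprime hcop, mem_bot] at this

theorem pPrimeCore_quotient_central {X : Type u} [Group X] [Finite X] [hp : Fact p.Prime]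
    (hO : Cfsg.pPrimeCore p X = ⊥) {Z : Subgroup X} [Z.Normal] (hZp : IsPGroup p Z)
    (hZ : Z ≤ center X) : Cfsg.pPrimeCore p (X ⧸ Z) = ⊥ := by
  let f := QuotientGroup.mk' Z
  set L := (Cfsg.pPrimeCore p (X ⧸ Z)).comap f with hL
  have hZL : Z ≤ L := QuotientGroup.le_comap_mk' Z _
  have hidx : (Z.subgroupOf L).index = Nat.card (Cfsg.pPrimeCore p (X ⧸ Z)) := by
    have h := relIndex_ker f (K := L)
    rw [QuotientGroup.ker_mk', hL,
      map_comap_eq_self_of_surjective (QuotientGroup.mk'_surjective Z)] at h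
    exact h
  obtain ⟨k, hk⟩ := IsPGroup.iff_card.1 hZp
  have hcard : Nat.card (Z.subgroupOf L) = p ^ k := by
    rw [Nat.card_congr (subgroupOfEquivOfLe hZL).toEquiv, hk]
  obtain ⟨C, hC⟩ := exists_right_complement'_of_coprime (N := Z.subgroupOf L)
    (by rw [hcard, hidx]; exact ((Cores.coprime_card_pPrimeCore p).pow_right k).symm)
  have hCn : C.Normal := by
    refine ⟨fun c hc l => ?_⟩
    obtain ⟨⟨a, b⟩, rfl⟩ := hC.2 l
    have hac : ∀ y : L, y * (a : L) = (a : L) * y := fun y =>
      Subtype.ext (mem_center_iff.1 (hZ (mem_subgroupOf.1 a.2)) y)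
    show (a : L) * (b : L) * c * ((a : L) * (b : L))⁻¹ ∈ C
    rw [show (a : L) * (b : L) * c * ((a : L) * (b : L))⁻¹
        = (a : L) * ((b : L) * c * (b : L)⁻¹) * (a : L)⁻¹ by group, ← hac, mul_inv_cancel_right]
    exact C.mul_mem (C.mul_mem b.2 hc) (C.inv_mem b.2)
  have hCc : Nat.card C = Nat.card (Cfsg.pPrimeCore p (X ⧸ Z)) :=
    Nat.eq_of_mul_eq_mul_left Nat.card_pos
      (hC.card_mul.trans ((card_mul_index (Z.subgroupOf L)).symm.trans (by rw [hidx])))
  have h1 : C ≤ Cfsg.pPrimeCore p L :=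
    Cores.le_pPrimeCore hCn (hCc ▸ Cores.coprime_card_pPrimeCore p)
  have h2 : (Cfsg.pPrimeCore p L).map L.subtype = ⊥ := by
    rw [Cores.pPrimeCore_map_subtype, hO, bot_inf_eq]
  rw [map_eq_bot_iff_of_injective _ L.subtype_injective] at h2
  rw [h2] at h1
  rw [le_bot_iff.1 h1, card_bot] at hCc
  exact card_eq_one.1 hCc.symm

theorem omega_center_le_thompson {X : Type u} [Group X] [Finite X] [Fact p.Prime] (T : Subgroup X) :
    Cfsg.omegaOne p (T ⊓ centralizer (T : Set X)) ≤ Cfsg.thompsonSubgroupOf p T := by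
  rw [PLocal.thompsonSubgroupOf_eq]
  obtain ⟨A, hA⟩ := PLocal.exists_maxIn (Q := PLocal.elemAb p) PLocal.elemAb_bot T
  have hW := PLocal.omegaOne_elemAb (p := p) (H := T ⊓ centralizer (T : Set X))
    (inf_le_right.trans (centralizer_le inf_le_left))
  have hAc : A ≤ centralizer (Cfsg.omegaOne p (T ⊓ centralizer (T : Set X)) : Set X) :=
    hA.1.trans (le_centralizer_iff.1 ((PLocal.omegaOne_le _).trans inf_le_right))
  have he := PLocal.eq_of_le_of_card_le le_sup_left
    (hA.2.2 _ (sup_le hA.1 ((PLocal.omegaOne_le _).trans inf_le_left))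
      (PLocal.elemAb_sup hA.2.1 hW hAc))
  exact (le_sup_right.trans he.ge).trans (le_sSup hA)

theorem two_three_dvd_of_failure {X : Type u} [Group X] [Finite X] [hp : Fact p.Prime]
    (hsep : Solvable.IsPiSeparable {p} X) (hO : Cfsg.pPrimeCore p X = ⊥)
    (hnf : ¬ Cfsg.IsThompsonFactorizable p X) :
    (p = 2 ∨ p = 3) ∧ 6 ∣ Nat.card X := by
  obtain ⟨X₁, _, _, U, ι, j, A, -, hF, -, hA, hT⟩ := FFPair.failure_model hsep hO hnf
  obtain ⟨hf, hEH, -⟩ := hF.exists_factor hA hT
  obtain ⟨e⟩ := hf.plane.iso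
  have hd := (card_dvd_of_le hEH).trans
    ((card_map_dvd (Cfsg.thompsonSubgroup p X) ι).trans (card_subgroup_dvd_card _))
  rw [Nat.card_congr e.toEquiv, GLOrder.card_SL_two, Nat.card_zmod] at hd
  refine ⟨hf.small, dvd_trans ?_ hd⟩
  rcases hf.small with rfl | rfl <;> norm_num

theorem key [hp : Fact p.Prime] [hq : Fact q.Prime] (hpq : p ≠ q)
    (h23 : ¬ ((p = 2 ∧ q = 3) ∨ (p = 3 ∧ q = 2))) (n : ℕ) :
    ∀ (X P : Type u) [Group X] [Finite X] [Group P] [Finite P] (e : P →* X),
      Function.Injective e → IsPGroup p P → ¬ p ∣ e.range.index →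
      Solvable.IsPiNum {p, q} (Nat.card X) → Cfsg.pPrimeCore p X = ⊥ → q ∣ Nat.card X →
      Nat.card X = n →
      ∃ K : Subgroup P, K.Characteristic ∧ centralizer (K : Set P) ≤ K ∧
        q ∣ Nat.card (normalizer (K.map e : Set X)) := by
  induction n using Nat.strongRecOn with
  | _ n ih =>
  intro X P _ _ _ _ e he hP hidx hpi hO hqX hn
  have := Solvable.isSolvable_of_card_two_primes hp.out hq.out hpq hpi
  have hsep : Solvable.IsPiSeparable {p} X := Solvable.isPiSeparable_of_isSolvable _
  set T := e.range with hTe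
  have hTp : IsPGroup p T := hP.of_surjective e.rangeRestrict e.rangeRestrict_surjective
  let S : Sylow p X := hTp.toSylow hidx
  have hRT : Cfsg.pCore p X ≤ T := PReduced.pCore_le_sylow S
  by_cases hY : ∃ Y : Subgroup X, T < Y ∧ Y ≠ ⊤
  · obtain ⟨Y, hTY, hY⟩ := hY
    have hqY : q ∣ Nat.card Y := by
      by_contra hqY
      refine hTY.ne (S.3 (IsPGroup.of_card (Nat.eq_prime_pow_of_unique_prime_dvd Nat.card_pos.ne'
        fun {r} hr hd => ?_)) hTY.le).symm
      rcases hpi r hr (hd.trans (card_subgroup_dvd_card Y)) with h | h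
      · exact h
      · exact absurd (h ▸ hd) hqY
    have hmem : ∀ x, e x ∈ Y := fun x => hTY.le ⟨x, rfl⟩
    set e' : P →* Y := e.codRestrict Y hmem
    have hr : e'.range = T.subgroupOf Y := by
      ext y
      exact ⟨fun ⟨x, hx⟩ => ⟨x, congrArg Subtype.val hx⟩, fun ⟨x, hx⟩ => ⟨x, Subtype.ext hx⟩⟩
    obtain ⟨K, hK, hKc, hKq⟩ := ih _ (hn ▸ Solvable.card_lt_of_ne_top hY) Y P e'
      (fun a b h => he (congrArg Subtype.val h)) hP
      (hr ▸ fun hd => hidx (hd.trans ⟨_, (relIndex_mul_index hTY.le).symm⟩))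
      (hpi.of_dvd (card_subgroup_dvd_card Y))
      (pPrimeCore_eq_bot_of_le hsep hO (hRT.trans hTY.le)) hqY rfl
    refine ⟨K, hK, hKc, hKq.trans ?_⟩
    have hKm : K.map e = (K.map e').map Y.subtype := by rw [map_map]; rfl
    rw [hKm, ← card_map_of_injective (K := normalizer ((K.map e' : Subgroup Y) : Set Y)) Y.subtype_injective]
    exact card_dvd_of_le (le_normalizer_map _)
  have hmax : ∀ Y : Subgroup X, T ≤ Y → Y = T ∨ Y = ⊤ := fun Y h => by
    rcases h.lt_or_eq with h | h
    · exact Or.inr (by_contra fun hne => hY ⟨Y, h, hne⟩)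
    · exact Or.inl h.symm
  set Z := Cfsg.omegaOne p (T ⊓ centralizer (T : Set X)) with hZd
  have hZT : Z ≤ T := (PLocal.omegaOne_le _).trans inf_le_left
  rcases hmax (centralizer (Z : Set X))
      (le_centralizer_iff.1 ((PLocal.omegaOne_le _).trans inf_le_right)) with hCZ | hCZ
  · -- `C(Z) = T`: the Thompson subgroup is normal
    have hfac : Cfsg.IsThompsonFactorizable p X := by
      by_contra hnf
      obtain ⟨hp23, h6⟩ := two_three_dvd_of_failure hsep hO hnf
      refine h23 ?_
      rcases hp23 with rfl | rfl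
      · rcases hpi 3 Nat.prime_three ((by norm_num : 3 ∣ 6).trans h6) with h | h
        · simp at h
        · exact Or.inl ⟨rfl, h.symm⟩
      · rcases hpi 2 Nat.prime_two ((by norm_num : 2 ∣ 6).trans h6) with h | h
        · simp at h
        · exact Or.inr ⟨rfl, h.symm⟩
    set J := Cfsg.thompsonSubgroupOf p T with hJd
    have hNJ : normalizer (J : Set X) = ⊤ := by
      refine eq_top_iff.2 fun g _ => ?_
      obtain ⟨x, hx, c, hc, m, hm, rfl⟩ := hfac S g
      rw [hO, mem_bot] at hx
      subst hx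
      rw [one_mul]
      have hc' : c ∈ T := by rw [← hCZ]; exact hc
      exact mul_mem (PLocal.normalizer_le_normalizer_thompsonSubgroupOf _ (le_normalizer hc')) hm
    set JP := Cfsg.thompsonSubgroupOf p (⊤ : Subgroup P) with hJP
    have hJPc : JP.Characteristic := by
      rw [hJP, PLocal.thompsonSubgroupOf_top]; exact PLocal.thompsonSubgroup_characteristic
    have hJm : JP.map e = J := by
      rw [hJP, PLocal.map_thompsonSubgroupOf e he.injOn, ← MonoidHom.range_eq_map]
    have hCJ : centralizer (J : Set X) ≤ T :=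
      (centralizer_le (SetLike.coe_subset_coe.2 (omega_center_le_thompson T))).trans hCZ.le
    have hKm : (JP ⊔ centralizer (JP : Set P)).map e = J ⊔ centralizer (J : Set X) := by
      rw [Subgroup.map_sup, hJm, ← top_inf_eq (centralizer (JP : Set P)),
        PLocal.map_centralizer_inf e he.injOn le_top, hJm, ← MonoidHom.range_eq_map,
        inf_eq_right.2 hCJ]
    refine ⟨JP ⊔ centralizer (JP : Set P), inferInstance,
      (centralizer_le (SetLike.coe_subset_coe.2 le_sup_left)).trans le_sup_right, ?_⟩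
    have : J.Normal := normalizer_eq_top_iff.1 hNJ
    rw [hKm, normalizer_eq_top, card_top]
    exact hqX
  · -- `Z` is central
    have hZc : Z ≤ center X := centralizer_eq_top_iff_subset.1 hCZ
    have hZn : Z.Normal := ⟨fun z hz g => by
      rw [mem_center_iff.1 (hZc hz) g, mul_inv_cancel_right]; exact hz⟩
    have hT0 : Nontrivial T := by
      rw [T.nontrivial_iff_ne_bot]
      intro h0
      have hX : ¬ p ∣ Nat.card X := by rwa [h0, index_bot] at hidx
      have hle : (⊤ : Subgroup X) ≤ Cfsg.pPrimeCore p X := Cores.le_pPrimeCore inferInstance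
        (by rw [card_top]; exact (hp.out.coprime_iff_not_dvd.2 hX).symm)
      rw [hO, le_bot_iff] at hle
      rw [← card_top (G := X), hle, card_bot] at hqX
      exact hq.out.not_dvd_one hqX
    have hZ0 : Z ≠ ⊥ := by
      refine PLocal.omegaOne_ne_bot ?_
      have hc := hTp.center_nontrivial
      have hle : (center T).map T.subtype ≤ T ⊓ centralizer (T : Set X) := by
        rintro _ ⟨z, hz, rfl⟩
        exact ⟨z.2, mem_centralizer_iff.2 fun y hy =>
          congrArg Subtype.val (mem_center_iff.1 hz ⟨y, hy⟩)⟩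
      refine dvd_trans ?_ (card_dvd_of_le hle)
      rw [card_map_of_injective T.subtype_injective]
      obtain ⟨k, hk⟩ := IsPGroup.iff_card.1 (hTp.to_subgroup (center T))
      rw [hk]
      exact dvd_pow_self p fun h0 => (Finite.one_lt_card (α := center T)).ne' (by rw [hk, h0, pow_zero])
    set f := QuotientGroup.mk' Z
    set ZP := Cfsg.omegaOne p ((⊤ : Subgroup P) ⊓ centralizer ((⊤ : Subgroup P) : Set P)) with hZP
    have hZm : ZP.map e = Z := by
      rw [hZP, PLocal.map_omegaOne e he.injOn, PLocal.map_centralizer_inf e he.injOn le_rfl,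
        ← MonoidHom.range_eq_map]
    have hZPc : ZP.Characteristic := by
      refine characteristic_iff_map_eq.2 fun φ => ?_
      rw [hZP, PLocal.map_omegaOne _ φ.injective.injOn,
        PLocal.map_centralizer_inf _ φ.injective.injOn le_rfl,
        map_top_of_surjective _ φ.surjective]
    have hker : ZP ≤ Z.comap e := map_le_iff_le_comap.1 hZm.le
    set e' : P ⧸ ZP →* X ⧸ Z := QuotientGroup.map ZP Z e hker
    have he' : Function.Injective e' := by
      rw [← MonoidHom.ker_eq_bot_iff, eq_bot_iff_forall]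
      intro x hx
      obtain ⟨x, rfl⟩ := QuotientGroup.mk'_surjective ZP x
      have hxZ : e x ∈ ZP.map e := hZm ▸ (QuotientGroup.eq_one_iff _).1 hx
      exact (QuotientGroup.eq_one_iff x).2 ((mem_map_iff_mem he).1 hxZ)
    have hr : e'.range = T.map f := by
      rw [hTe, ← MonoidHom.range_comp, show f.comp e = e'.comp (QuotientGroup.mk' ZP) from rfl,
        MonoidHom.range_comp, MonoidHom.range_eq_top.2 (QuotientGroup.mk'_surjective ZP),
        ← MonoidHom.range_eq_map]
    obtain ⟨k, hk⟩ := IsPGroup.iff_card.1 (hTp.to_le hZT)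
    have hcard : Nat.card X = Nat.card (X ⧸ Z) * p ^ k := by
      rw [← hk, ← card_eq_card_quotient_mul_card_subgroup]
    obtain ⟨K, hK, hKc, hKq⟩ := ih _ (hn ▸ Solvable.card_quotient_lt hZ0) (X ⧸ Z) (P ⧸ ZP) e' he'
      (hP.to_quotient ZP)
      (hr ▸ fun hd => hidx (hd.trans (T.index_map_dvd (QuotientGroup.mk'_surjective Z))))
      (hpi.of_dvd ⟨_, hcard⟩) (pPrimeCore_quotient_central hO (hTp.to_le hZT) hZc)
      ((hq.out.dvd_mul.1 (hcard ▸ hqX)).resolve_right
        fun h => hpq.symm ((Nat.prime_dvd_prime_iff_eq hq.out hp.out).1 (hq.out.dvd_of_dvd_pow h))) rfl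
    refine ⟨K.comap (QuotientGroup.mk' ZP), characteristic_comap_quotient hZPc hK, fun x hx => ?_, ?_⟩
    · refine hKc (mem_centralizer_iff.2 fun y hy => ?_)
      obtain ⟨y, rfl⟩ := QuotientGroup.mk'_surjective ZP y
      rw [← map_mul, ← map_mul, mem_centralizer_iff.1 hx y hy]
    set M := (K.comap (QuotientGroup.mk' ZP)).map e with hMd
    have hMf : M.map f = K.map e' := by
      rw [hMd, map_map, show f.comp e = e'.comp (QuotientGroup.mk' ZP) from rfl, ← map_map,
        map_comap_eq_self_of_surjective (QuotientGroup.mk'_surjective ZP)]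
    have hZM : f.ker ≤ M := by
      rw [QuotientGroup.ker_mk', ← hZm]
      exact map_mono (QuotientGroup.le_comap_mk' ZP K)
    rw [← comap_map_eq_self hZM, hMf]
    refine hKq.trans (dvd_trans ?_ (card_dvd_of_le (le_normalizer_comap f)))
    conv_lhs => rw [← map_comap_eq_self_of_surjective (QuotientGroup.mk'_surjective Z)
      (normalizer ((K.map e' : Subgroup (X ⧸ Z)) : Set (X ⧸ Z)))]
    exact card_map_dvd _ f

end Cfsg.Agent.PQAutomizer
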