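import Cfsg.Agent.Lib.Solvable.Hall
import Cfsg.Agent.Lib.Solvable.Converse
import Cfsg.Agent.Lib.Cores.Basic
import Cfsg.Agent.Lib.Cores.Subnormal

/-!
# Hall `{p,q}`-subgroups of `p`-separable groups

* `exists_hall_pair_ge`: a `p`-separable group has a Hall `{p,q}`-subgroup over each Sylow `p`-subgroup
-/

open Subgroup
open Pointwise

namespace Cfsg.Agent.PQAutomizer

universe u

variable {p q : ℕ}

theorem hallHyp_pair {G : Type*} [Group G] [Finite G] [hp : Fact p.Prime] [hq : Fact q.Prime]
    (hpq : p ≠ q) : Solvable.HallHyp {p, q} G :=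
  Or.inl fun _ hU => Solvable.isSolvable_of_card_two_primes hp.out hq.out hpq hU

theorem exists_hall_pair [hp : Fact p.Prime] [hq : Fact q.Prime] (hpq : p ≠ q) (n : ℕ) :
    ∀ (G : Type u) [Group G] [Finite G], Nat.card G = n → Solvable.IsPiSeparable {p} G →
      ∃ X : Subgroup G, Cfsg.IsPiHall {p, q} X := by
  induction n using Nat.strongRecOn with
  | _ n ih =>
  intro G _ _ hn hsep
  rcases subsingleton_or_nontrivial G with hG | hG
  · refine ⟨⊤, Solvable.isPiHall_iff.2 ⟨?_, ?_⟩⟩
    · rw [card_top, Nat.card_unique]; exact Solvable.isPiNum_one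
    · rw [index_top]; exact Solvable.isPiNum_one
  obtain ⟨M, hM, hM0, hMc⟩ := hsep.exists_normal_ne_bot
  obtain ⟨X', hX'⟩ := ih _ (hn ▸ Solvable.card_quotient_lt hM0) (G ⧸ M) rfl (hsep.quotient M)
  rw [Solvable.isPiHall_iff] at hX'
  set f := QuotientGroup.mk' M
  set Y := X'.comap f with hY
  have hMY : M ≤ Y := QuotientGroup.le_comap_mk' M X'
  have hYm : Y.map f = X' := map_comap_eq_self_of_surjective (QuotientGroup.mk'_surjective M) X'
  have hYrel : M.relIndex Y = Nat.card X' := by
    have h := Subgroup.relIndex_ker f (K := Y)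
    rwa [QuotientGroup.ker_mk', hYm] at h
  have hYi : Solvable.IsPiNum ({p, q} : Set ℕ)ᶜ Y.index := by
    rw [hY, index_comap_of_surjective _ (QuotientGroup.mk'_surjective M)]
    exact hX'.2
  suffices h : ∃ L : Subgroup G, L ≤ Y ∧ Solvable.IsPiNum ({p, q} : Set ℕ)ᶜ (L.relIndex Y) ∧
      ∃ W : Subgroup L, Cfsg.IsPiHall {p, q} W by
    obtain ⟨L, hLY, hrel, W, hW⟩ := h
    rw [Solvable.isPiHall_iff] at hW
    refine ⟨W.map L.subtype, Solvable.isPiHall_iff.2 ⟨?_, ?_⟩⟩
    · rw [card_map_of_injective L.subtype_injective]; exact hW.1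
    · rw [index_map_subtype, ← relIndex_mul_index hLY]
      exact hW.2.mul (hrel.mul hYi)
  rcases hMc with h | h
  · refine ⟨Y, le_rfl, by rw [relIndex_self]; exact Solvable.isPiNum_one, ⊤,
      Solvable.isPiHall_iff.2 ⟨?_, by rw [index_top]; exact Solvable.isPiNum_one⟩⟩
    rw [card_top, ← card_mul_index (M.subgroupOf Y),
      Nat.card_congr (subgroupOfEquivOfLe hMY).toEquiv]
    refine (h.mono (by simp)).mul ?_
    show Solvable.IsPiNum _ (M.relIndex Y)
    rw [hYrel]; exact hX'.1
  · let Q : Sylow q M := default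
    set Q' := (Q : Subgroup M).map M.subtype with hQ'
    have hQM : Q' ≤ M := map_subtype_le _
    set L := Y ⊓ normalizer (Q' : Set G)
    have hQL : Q' ≤ L := le_inf (hQM.trans hMY) le_normalizer
    have hfr : L ⊔ M = Y := by
      refine le_antisymm (sup_le inf_le_left hMY) fun y hy => ?_
      have hy' : y ∈ normalizer (Q' : Set G) ⊔ M := by
        rw [hQ', Sylow.normalizer_sup_eq_top]; exact mem_top y
      obtain ⟨a, ha, m, hm, rfl⟩ := mem_sup_of_normal_right.1 hy'
      exact mul_mem_sup ⟨(Y.mul_mem_cancel_right (hMY hm)).1 hy, ha⟩ hm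
    have hLM : Q' ≤ L ⊓ M := le_inf hQL hQM
    have hrel : L.relIndex Y = (L ⊓ M).relIndex M := by
      have e1 := Solvable.card_sup_mul_card_inf L M
      rw [hfr] at e1
      have e2 : Nat.card L * L.relIndex Y = Nat.card Y := by
        rw [relIndex, ← Nat.card_congr (subgroupOfEquivOfLe (inf_le_left : L ≤ Y)).toEquiv,
          card_mul_index]
      have e3 : Nat.card ↥(L ⊓ M) * (L ⊓ M).relIndex M = Nat.card M := by
        rw [relIndex, ← Nat.card_congr (subgroupOfEquivOfLe (inf_le_right : L ⊓ M ≤ M)).toEquiv,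
          card_mul_index]
      rw [← e2, ← e3] at e1
      exact Nat.eq_of_mul_eq_mul_left (Nat.mul_pos Nat.card_pos Nat.card_pos : 0 < Nat.card L * Nat.card ↥(L ⊓ M))
        (by linarith)
    have hQidx : Q'.relIndex M = (Q : Subgroup M).index := by
      rw [relIndex, hQ', subgroupOf, comap_map_eq_self_of_injective M.subtype_injective]
    have hp' : ∀ d, d ∣ Q'.relIndex M → Solvable.IsPiNum ({p, q} : Set ℕ)ᶜ d := by
      intro d hd r hr hrd hmem
      rcases hmem with rfl | rfl
      · exact h r hr ((hrd.trans hd).trans (relIndex_dvd_card _ _)) (Set.mem_singleton r)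
      · exact Q.not_dvd_index (hQidx ▸ hrd.trans hd)
    refine ⟨L, inf_le_left, ?_, Solvable.exists_piHall ?_ (hallHyp_pair hpq)⟩
    · rw [hrel]
      exact hp' _ ⟨_, ((mul_comm _ _).trans (relIndex_mul_relIndex Q' (L ⊓ M) M hLM inf_le_right)).symm⟩
    refine Solvable.isPiSeparable_of_chain (n := 3) ![⊥, Q'.subgroupOf L, M.subgroupOf L, ⊤] rfl rfl
      (fun i => ?_) (fun i => ?_)
    · fin_cases i
      · exact inferInstanceAs (⊥ : Subgroup L).Normal
      · exact normal_subgroupOf_of_le_normalizer inf_le_right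
      · exact inferInstanceAs (M.subgroupOf L).Normal
      · exact inferInstanceAs (⊤ : Subgroup L).Normal
    · fin_cases i
      · refine Or.inl ?_
        show Solvable.IsPiNum _ ((⊥ : Subgroup L).relIndex (Q'.subgroupOf L))
        rw [relIndex_bot_left, Nat.card_congr (subgroupOfEquivOfLe hQL).toEquiv, hQ',
          card_map_of_injective M.subtype_injective]
        exact Solvable.isPiNum_of_isPGroup Q.isPGroup' (Or.inr rfl)
      · refine Or.inr ?_
        show Solvable.IsPiNum _ ((Q'.subgroupOf L).relIndex (M.subgroupOf L))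
        rw [← inf_subgroupOf_right M L, relIndex_subgroupOf inf_le_right, inf_comm]
        exact hp' _ ⟨_, (relIndex_mul_relIndex Q' (L ⊓ M) M hLM inf_le_right).symm⟩
      · refine Or.inl ?_
        show Solvable.IsPiNum _ ((M.subgroupOf L).relIndex ⊤)
        rw [relIndex_top_right]
        exact hX'.1.of_dvd (hYrel ▸ Solvable.relIndex_dvd_relIndex_of_normal (inf_le_left : L ≤ Y))

theorem exists_hall_pair_ge [hp : Fact p.Prime] [hq : Fact q.Prime] (hpq : p ≠ q) {G : Type u}
    [Group G] [Finite G] (hsep : Solvable.IsPiSeparable {p} G) (T : Sylow p G) :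
    ∃ X : Subgroup G, Cfsg.IsPiHall {p, q} X ∧ (T : Subgroup G) ≤ X := by
  obtain ⟨X, hX⟩ := exists_hall_pair hpq _ G rfl hsep
  let P : Sylow p X := default
  have hidx : ¬ p ∣ ((P : Subgroup X).map X.subtype).index := by
    rw [index_map_subtype]
    exact fun hd => (hp.out.dvd_mul.1 hd).elim P.not_dvd_index
      (fun h => (Solvable.isPiHall_iff.1 hX).2 p hp.out h (Or.inl rfl))
  obtain ⟨g, hg⟩ := MulAction.exists_smul_eq G ((P.isPGroup'.map X.subtype).toSylow hidx) T
  refine ⟨MulAut.conj g • X, Solvable.isPiHall_conj hX g, ?_⟩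
  rw [← hg, Sylow.coe_subgroup_smul]
  exact Solvable.conj_mono g (map_subtype_le _)

end Cfsg.Agent.PQAutomizer
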